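import Cfsg.Agent.Lib.Classical.SympGroup

/-!
Symmetric root elements of `Sp_{2m}` and a criterion for a subgroup to contain all transvections.
-/

set_option autoImplicit false

namespace Cfsg.Agent.Lib.SpTwoGen

open scoped Matrix
open Cfsg.Agent.Lib.Geometry Cfsg.Agent.Lib.Classical

variable {F : Type*} [Field F] {m : ℕ}

set_option quotPrecheck false in
local notation "Spm" => Subtype (fun A => A ∈ Matrix.symplecticGroup (Fin m) F)
set_option quotPrecheck false in
local notation "Vm" => (Fin m ⊕ Fin m → F)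
set_option quotPrecheck false in
local notation "B" => Cfsg.sympForm m F

theorem form_add_left (u v w : Vm) : B (u + v) w = B u w + B v w := by
  rw [← sympBilin_apply, ← sympBilin_apply, ← sympBilin_apply, map_add, LinearMap.add_apply]

theorem form_zero_comm {u v : Vm} (h : B u v = 0) : B v u = 0 := by
  rw [sympForm_swap, h, neg_zero]

/-- `e_i`. -/
noncomputable def bE (i : Fin m) : Vm := Pi.single (Sum.inl i) 1

/-- `f_i`. -/
noncomputable def bF (i : Fin m) : Vm := Pi.single (Sum.inr i) 1

@[simp] theorem bE_inl (i j : Fin m) :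
    (bE i : Vm) (Sum.inl j) = if j = i then 1 else 0 := by simp [bE, Pi.single_apply]
@[simp] theorem bE_inr (i j : Fin m) : (bE i : Vm) (Sum.inr j) = 0 := by simp [bE]
@[simp] theorem bF_inl (i j : Fin m) : (bF i : Vm) (Sum.inl j) = 0 := by simp [bF]
@[simp] theorem bF_inr (i j : Fin m) :
    (bF i : Vm) (Sum.inr j) = if j = i then 1 else 0 := by simp [bF, Pi.single_apply]

@[simp] theorem form_bE_right (x : Vm) (i : Fin m) : B x (bE i) = x (Sum.inr i) := by
  rw [sympForm_eq_sum, Finset.sum_eq_single i] <;> simp +contextual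

@[simp] theorem form_bF_right (x : Vm) (i : Fin m) : B x (bF i) = -x (Sum.inl i) := by
  rw [sympForm_eq_sum, Finset.sum_eq_single i] <;> simp +contextual

theorem sp_ext_basis {g h : Spm} (he : ∀ i, g.1 *ᵥ bE i = h.1 *ᵥ bE i)
    (hf : ∀ i, g.1 *ᵥ bF i = h.1 *ᵥ bF i) : g = h :=
  Subtype.ext (Matrix.ext_of_mulVec_single fun k => by
    rcases k with i | i
    · exact he i
    · exact hf i)

theorem spT_fix {v x : Vm} (c : F) (h : B x v = 0) : (spT v c).1 *ᵥ x = x := by
  rw [spT_mulVec, h, mul_zero, zero_smul, add_zero]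

theorem spT_one_smul (v : Vm) (c : F) : spT ((1 : F) • v) c = spT v c := by rw [one_smul]

/-- The root element `x ↦ x + t (B(x,u) v + B(x,v) u)` for orthogonal `u`, `v`. -/
noncomputable def spS (u v : Vm) (t : F) : Spm :=
  spT (u + t • v) 1 * spT u (-1) * spT (t • v) (-1)

theorem spS_mulVec {u v : Vm} (h : B u v = 0) (t : F) (x : Vm) :
    (spS u v t).1 *ᵥ x = x + t • (B x u • v + B x v • u) := by
  unfold spS
  rw [sp_mulVec_mul, sp_mulVec_mul]
  simp only [spT_mulVec, sympForm_add_right, sympForm_smul_right, form_add_left, sympForm_smul_left,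
    sympForm_self, h, form_zero_comm h]
  match_scalars <;> ring

theorem spS_conj (g : Spm) (u v : Vm) (t : F) :
    g * spS u v t * g⁻¹ = spS (g.1 *ᵥ u) (g.1 *ᵥ v) t := by
  unfold spS
  rw [← Matrix.mulVec_smul, ← Matrix.mulVec_add, ← spT_conj, ← spT_conj, ← spT_conj]
  simp only [mul_assoc, inv_mul_cancel_left]

theorem spS_symm {u v : Vm} (h : B u v = 0) (t : F) : spS u v t = spS v u t :=
  sp_ext fun x => by rw [spS_mulVec h, spS_mulVec (form_zero_comm h), add_comm (B x u • v)]

theorem spS_smul_right (u v : Vm) (a t : F) : spS u (a • v) t = spS u v (t * a) := by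
  unfold spS
  rw [smul_smul]

theorem spS_add {u v : Vm} (h : B u v = 0) (s t : F) :
    spS u v s * spS u v t = spS u v (s + t) :=
  sp_ext fun x => by
    rw [sp_mulVec_mul]
    simp only [spS_mulVec h, form_add_left, sympForm_smul_left, sympForm_self, h, form_zero_comm h]
    match_scalars <;> ring

theorem spS_zero (u v : Vm) : spS u v 0 = 1 := by
  unfold spS
  rw [zero_smul, add_zero, spT_add, add_neg_cancel, spT_zero, one_mul]
  exact sp_ext fun x => by
    rw [spT_mulVec, smul_zero, add_zero, sp_one_mulVec]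

theorem spS_inv {u v : Vm} (h : B u v = 0) (t : F) : (spS u v t)⁻¹ = spS u v (-t) :=
  inv_eq_of_mul_eq_one_right (by rw [spS_add h, add_neg_cancel, spS_zero])

theorem spS_add_right {u a b : Vm} (ha : B u a = 0) (hb : B u b = 0) (s t : F) :
    spS u a s * spS u b t = spT u (s * t * B b a) * spS u (s • a + t • b) 1 :=
  sp_ext fun x => by
    have h : B u (s • a + t • b) = 0 := by
      rw [sympForm_add_right, sympForm_smul_right, sympForm_smul_right, ha, hb, mul_zero, mul_zero,
        add_zero]
    rw [sp_mulVec_mul, sp_mulVec_mul]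
    simp only [spT_mulVec, spS_mulVec h, spS_mulVec ha, spS_mulVec hb, sympForm_add_right,
      sympForm_smul_right, form_add_left, sympForm_smul_left, sympForm_self, ha, hb,
      form_zero_comm ha, form_zero_comm hb]
    match_scalars <;> ring

theorem spS_self (u : Vm) (t : F) : spS u u t = spT u (2 * t) :=
  sp_ext fun x => by
    rw [spS_mulVec (sympForm_self u), spT_mulVec]
    match_scalars <;> ring

/-- All transvections along `v` lie in `H`. -/
def TIn (H : Subgroup Spm) (v : Vm) : Prop := ∀ c : F, spT v c ∈ H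

/-- All root elements along `u`, `v` lie in `H`. -/
def SIn (H : Subgroup Spm) (u v : Vm) : Prop := ∀ t : F, spS u v t ∈ H

variable {H : Subgroup (Matrix.symplecticGroup (Fin m) F)}

theorem TIn.smul {v : Vm} (h : TIn H v) (a : F) : TIn H (a • v) := fun c => by
  rw [spT_smul]; exact h _

theorem TIn.conj {g : Spm} (hg : g ∈ H) {v : Vm} (h : TIn H v) : TIn H (g.1 *ᵥ v) := fun c => by
  rw [← spT_conj]; exact H.mul_mem (H.mul_mem hg (h c)) (H.inv_mem hg)

theorem TIn.of_conj {g : Spm} (hg : g ∈ H) {v : Vm} (h : TIn H (g.1 *ᵥ v)) : TIn H v := by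
  have := h.conj (H.inv_mem hg)
  rwa [sp_inv_mulVec_cancel] at this

theorem SIn.conj {g : Spm} (hg : g ∈ H) {u v : Vm} (h : SIn H u v) :
    SIn H (g.1 *ᵥ u) (g.1 *ᵥ v) := fun t => by
  rw [← spS_conj]; exact H.mul_mem (H.mul_mem hg (h t)) (H.inv_mem hg)

theorem SIn.of_conj {g : Spm} (hg : g ∈ H) {u v : Vm} (h : SIn H (g.1 *ᵥ u) (g.1 *ᵥ v)) :
    SIn H u v := by
  have := h.conj (H.inv_mem hg)
  rwa [sp_inv_mulVec_cancel, sp_inv_mulVec_cancel] at this

theorem SIn.symm {u v : Vm} (hB : B u v = 0) (h : SIn H u v) : SIn H v u := fun t => by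
  rw [← spS_symm hB]; exact h t

theorem SIn.of_smul {u v : Vm} {a : F} (ha : a ≠ 0) (h : SIn H u (a • v)) : SIn H u v := fun t => by
  have := h (t / a)
  rwa [spS_smul_right, div_mul_cancel₀ t ha] at this

/-- Replacing `a` by a non-orthogonal `b` in the second argument. -/
theorem SIn.flip {u a b : Vm} (ha : B u a = 0) (hb : B u b = 0) (hab : B a b ≠ 0)
    (hu : TIn H u) (hT : TIn H b) (hS : SIn H u a) : SIn H u b := fun t => by
  have h1 := hS.conj (hT (B a b)⁻¹) t
  rw [spT_fix _ hb, spT_mulVec, inv_mul_cancel₀ hab, one_smul] at h1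
  have h2 := spS_add_right ha hb t t
  rw [← smul_add, spS_smul_right, one_mul, ← eq_inv_mul_iff_mul_eq] at h2
  rw [h2]
  exact H.mul_mem (H.inv_mem (hS t)) (H.mul_mem (hu _) h1)

/-- From `S(u,a)` and `S(u,b)` with `B(a,b) ≠ 0` in odd characteristic, get `T(u)`. -/
theorem TIn.of_SIn {u a b : Vm} (h2 : (2 : F) ≠ 0) (ha : B u a = 0) (hb : B u b = 0)
    (hab : B a b ≠ 0) (hA : SIn H u a) (hB' : SIn H u b) : TIn H u := fun c => by
  let t : F := c / 2 / B a b
  have h1 := (hA.conj (hB' t)) 1
  simp only [spS_mulVec hb, sympForm_self, hb, form_zero_comm ha, zero_smul, add_zero, smul_zero,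
    zero_add, smul_smul] at h1
  have h3 := spS_add_right ha (sympForm_self u) 1 (t * B a b)
  rw [ha, mul_zero, spT_zero, one_mul, one_smul] at h3
  rw [← h3, spS_self] at h1
  have ht : 2 * (t * B a b) = c := by
    simp only [t]
    rw [div_mul_cancel₀ _ hab, mul_div_cancel₀ _ h2]
  rw [ht] at h1
  simpa using H.mul_mem (H.inv_mem (hA 1)) h1

/-- `v` is supported on the pairs with index `< k`. -/
def Below (k : ℕ) (v : Vm) : Prop :=
  ∀ i : Fin m, k ≤ (i : ℕ) → v (Sum.inl i) = 0 ∧ v (Sum.inr i) = 0

/-- Transvections along basis vectors and `S(e_k, e_{k+1})` generate `Sp_{2m}`. -/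
theorem eq_top_of_gens (hE : ∀ i, TIn H (bE i)) (hF : ∀ i, TIn H (bF i))
    (hS : ∀ i j : Fin m, (j : ℕ) = (i : ℕ) + 1 → SIn H (bE i) (bE j)) : H = ⊤ := by
  suffices hall : ∀ (k : ℕ) (v : Vm), Below k v → TIn H v by
    exact sp_eq_top_of_transvections fun v => hall m v fun i hi => absurd i.2 (by omega)
  intro k
  induction k with
  | zero =>
    intro v hv c
    have : v = 0 := funext fun x => by
      rcases x with i | i
      · exact (hv i (Nat.zero_le _)).1
      · exact (hv i (Nat.zero_le _)).2
    subst this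
    convert H.one_mem
    exact sp_ext fun x => by rw [spT_mulVec, smul_zero, add_zero, sp_one_mulVec]
  | succ k ih =>
    intro v hv
    by_cases hkm : k < m
    swap
    · exact ih v fun i hi => absurd i.2 (by omega)
    rcases Nat.eq_zero_or_pos k with rfl | hk0
    · -- base: a single hyperbolic pair
      let p : Fin m := ⟨0, hkm⟩
      have hv0 : v = v (Sum.inl p) • bE p + v (Sum.inr p) • bF p := funext fun x => by
        rcases x with i | i <;> rcases eq_or_ne i p with rfl | hi
        · simp
        · simp [hi, (hv i (Nat.one_le_iff_ne_zero.2 fun h => hi (Fin.ext h))).1]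
        · simp
        · simp [hi, (hv i (Nat.one_le_iff_ne_zero.2 fun h => hi (Fin.ext h))).2]
      by_cases hd : v (Sum.inr p) = 0
      · rw [hv0, hd, zero_smul, add_zero]; exact (hE p).smul _
      · refine TIn.of_conj (g := spT (bE p) (-(v (Sum.inl p)) / v (Sum.inr p))) (hE p _) ?_
        rw [spT_mulVec, form_bE_right, div_mul_cancel₀ _ hd]
        conv => arg 2; arg 1; rw [hv0]
        convert (hF p).smul (v (Sum.inr p)) using 1
        match_scalars <;> ring
    let i : Fin m := ⟨k - 1, by omega⟩
    let j : Fin m := ⟨k, hkm⟩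
    have hij : (j : ℕ) = (i : ℕ) + 1 := by simp only [i, j]; omega
    have hne : i ≠ j := fun h => by rw [h] at hij; omega
    have h_ee : B (bE i) (bE j) = 0 := by simp
    have h_ef : B (bE i) (bF j) = 0 := by simp [hne.symm]
    have h_fe : B (bF i) (bE j) = 0 := by simp [hne.symm]
    have h_ff : B (bF i) (bF j) = 0 := by simp
    have See : SIn H (bE i) (bE j) := hS i j hij
    have Sef : SIn H (bE i) (bF j) :=
      See.flip h_ee h_ef (by simp) (hE i) (hF j)
    have Sfe : SIn H (bF i) (bE j) :=
      ((See.symm h_ee).flip (form_zero_comm h_ee) (form_zero_comm h_fe) (by simp) (hE j) (hF i)).symm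
        (form_zero_comm h_fe)
    have Sff : SIn H (bF i) (bF j) := Sfe.flip h_fe h_ff (by simp) (hF i) (hF j)
    -- with a non-zero pairing against `x ∈ {e_i, f_i}` the top pair can be cleared
    have step : ∀ v : Vm, Below (k + 1) v → ∀ x : Vm, B v x ≠ 0 → Below k x →
        B x (bE j) = 0 → B x (bF j) = 0 → SIn H x (bE j) → SIn H x (bF j) → TIn H v := by
      intro v hv x hx hxk hxe hxf hSe hSf
      refine TIn.of_conj (hSe (-(v (Sum.inl j)) / B v x)) ?_
      set v1 := (spS x (bE j) (-(v (Sum.inl j)) / B v x)).1 *ᵥ v with hv1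
      refine TIn.of_conj (hSf (-(v1 (Sum.inr j)) / B v x)) (ih _ fun l hl => ?_)
      have hxl := hxk l hl
      have hB1 : B v1 x = B v x := by
        rw [hv1, spS_mulVec hxe, form_add_left, sympForm_smul_left, form_add_left,
          sympForm_smul_left, sympForm_smul_left, sympForm_self, form_zero_comm hxe]
        ring
      rw [spS_mulVec hxf, hB1]
      rcases eq_or_ne l j with rfl | hlj
      · simp only [Pi.add_apply, Pi.smul_apply, smul_eq_mul, hxl.1, hxl.2, bF_inl, bF_inr, if_true]
        refine ⟨?_, by field_simp; ring⟩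
        rw [hv1, spS_mulVec hxe]
        simp [hxl.1]
        field_simp
        ring
      · have hlv := hv l (by
          have : (l : ℕ) ≠ k := fun h => hlj (Fin.ext h)
          omega)
        rw [hv1, spS_mulVec hxe]
        simp [hxl.1, hxl.2, hlv.1, hlv.2, hlj]
    have hbel : Below k (bE i : Vm) ∧ Below k (bF i : Vm) := by
      constructor <;> intro l hl <;>
        simp [show l ≠ i from fun h => by simp [h, i] at hl; omega]
    by_cases h1 : B v (bE i) = 0
    swap
    · exact step v hv _ h1 hbel.1 h_ee h_ef See Sef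
    by_cases h2 : B v (bF i) = 0
    swap
    · exact step v hv _ h2 hbel.2 h_fe h_ff Sfe Sff
    -- both coordinates in pair `i` vanish
    have push : ∀ y : Vm, B (bE i) y = 0 → B y (bF i) = 0 → B v y ≠ 0 →
        SIn H (bE i) y → TIn H v := by
      intro y hy hyf hvy hSy
      refine TIn.of_conj (hSy 1) (step _ ?_ (bF i) ?_ hbel.2 h_fe h_ff Sfe Sff)
      · intro l hl
        rw [spS_mulVec hy, h1]
        simp [hv l hl, show l ≠ i from fun h => by simp [h, i] at hl; omega]
      · rw [spS_mulVec hy, h1, zero_smul, zero_add, one_smul, form_add_left, h2, zero_add,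
          sympForm_smul_left]
        refine mul_ne_zero hvy ?_
        simp
    by_cases h3 : B v (bE j) = 0
    swap
    · exact push _ h_ee (by simp [hne]) h3 See
    by_cases h4 : B v (bF j) = 0
    swap
    · exact push _ h_ef (by simp) h4 Sef
    refine ih v fun l hl => ?_
    rcases eq_or_ne l j with rfl | hlj
    · exact ⟨by simpa using h4, by simpa using h3⟩
    · exact hv l (by
        have : (l : ℕ) ≠ k := fun h => hlj (Fin.ext h)
        omega)

end Cfsg.Agent.Lib.SpTwoGen
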