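import Cfsg.Agent.Lib.SpTwoGen.Basic

/-!
Two generators of `Sp_{2m}(q)`: a one-parameter diagonal element or a cycle, and a product of root
elements with a signed cycle.
-/

set_option autoImplicit false
set_option maxHeartbeats 400000

namespace Cfsg.Agent.Lib.SpTwoGen

open scoped Matrix
open Cfsg.Agent.Lib.Geometry Cfsg.Agent.Lib.Classical

variable {F : Type*} [Field F]

section general

variable {m : ℕ}

set_option quotPrecheck false in
local notation "Spm" => Subtype (fun A => A ∈ Matrix.symplecticGroup (Fin m) F)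
set_option quotPrecheck false in
local notation "Vm" => (Fin m ⊕ Fin m → F)

/-- A symplectic linear map as a group element. -/
noncomputable def spOfLin (L : Vm →ₗ[F] Vm)
    (h : ∀ u v, Cfsg.sympForm m F (L u) (L v) = Cfsg.sympForm m F u v) : Spm :=
  ⟨LinearMap.toMatrix' L, mem_symplecticGroup_iff_form.mpr fun u v => by
    rw [LinearMap.toMatrix'_mulVec, LinearMap.toMatrix'_mulVec, h]⟩

theorem spOfLin_mulVec (L : Vm →ₗ[F] Vm)
    (h : ∀ u v, Cfsg.sympForm m F (L u) (L v) = Cfsg.sympForm m F u v) (x : Vm) :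
    (spOfLin L h).1 *ᵥ x = L x := LinearMap.toMatrix'_mulVec L x

/-- The diagonal action with parameters `c`. -/
noncomputable def dLin (c : Fin m → Fˣ) : Vm →ₗ[F] Vm where
  toFun x := Sum.elim (fun i => (c i : F) * x (Sum.inl i))
    (fun i => ((c i)⁻¹ : Fˣ) * x (Sum.inr i))
  map_add' x y := by funext i; rcases i with i | i <;> simp [mul_add]
  map_smul' a x := by funext i; rcases i with i | i <;> simp [mul_left_comm]

theorem dLin_form (c : Fin m → Fˣ) (u v : Vm) :
    Cfsg.sympForm m F (dLin c u) (dLin c v) = Cfsg.sympForm m F u v := by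
  rw [sympForm_eq_sum, sympForm_eq_sum]
  refine Finset.sum_congr rfl fun i _ => ?_
  simp only [dLin, LinearMap.coe_mk, AddHom.coe_mk, Sum.elim_inl, Sum.elim_inr,
    Units.val_inv_eq_inv_val]
  field_simp [(c i).ne_zero]

/-- A diagonal element of `Sp_{2m}`. -/
noncomputable def spD (c : Fin m → Fˣ) : Spm := spOfLin (dLin c) (dLin_form c)

theorem spD_inl (c : Fin m → Fˣ) (x : Vm) (i : Fin m) :
    ((spD c).1 *ᵥ x) (Sum.inl i) = (c i : F) * x (Sum.inl i) := by
  rw [spD, spOfLin_mulVec]; rfl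

theorem spD_inr (c : Fin m → Fˣ) (x : Vm) (i : Fin m) :
    ((spD c).1 *ᵥ x) (Sum.inr i) = ((c i)⁻¹ : Fˣ) * x (Sum.inr i) := by
  rw [spD, spOfLin_mulVec]; rfl

theorem spD_bE (c : Fin m → Fˣ) (i : Fin m) : (spD c).1 *ᵥ bE i = (c i : F) • bE i := by
  funext j
  rcases j with j | j
  · rw [spD_inl]
    by_cases h : j = i <;> simp [h]
  · rw [spD_inr]; simp

theorem spD_bF (c : Fin m → Fˣ) (i : Fin m) :
    (spD c).1 *ᵥ bF i = (((c i)⁻¹ : Fˣ) : F) • bF i := by
  funext j
  rcases j with j | j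
  · rw [spD_inl]; simp
  · rw [spD_inr]
    by_cases h : j = i <;> simp [h]

theorem spD_comm (c d : Fin m → Fˣ) : spD c * spD d = spD d * spD c :=
  sp_ext fun x => by
    funext j
    rcases j with j | j <;> simp only [sp_mulVec_mul, spD_inl, spD_inr] <;> ring

variable {H : Subgroup (Matrix.symplecticGroup (Fin m) F)}

theorem SIn.smul {u v : Vm} (h : SIn H u v) (a : F) : SIn H u (a • v) := fun t => by
  rw [spS_smul_right]; exact h _

theorem spS_smul_left {u v : Vm} (h : Cfsg.sympForm m F u v = 0) (a t : F) :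
    spS (a • u) v t = spS u v (t * a) := by
  rw [spS_symm (by rw [sympForm_smul_left, h, mul_zero]), spS_smul_right,
    ← spS_symm h]

theorem spT_comm_spS {u v : Vm} (h : Cfsg.sympForm m F u v = 0) (c t : F) :
    spT u c * spS u v t = spS u v t * spT u c :=
  mul_inv_eq_iff_eq_mul.mp (by
    rw [spS_conj, spT_fix _ (sympForm_self u), spT_fix _ (form_zero_comm h)])

theorem spS_pow {u v : Vm} (h : Cfsg.sympForm m F u v = 0) (N : ℕ) :
    spS u v (1 : F) ^ N = spS u v (N : F) := by
  induction N with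
  | zero => rw [pow_zero, Nat.cast_zero, spS_zero]
  | succ N ih => rw [pow_succ, ih, spS_add h, Nat.cast_succ]

/-- Transvections along `u` fill up once they contain `c t²` for all `t`. -/
theorem TIn.of_squares [Finite F] {u : Vm} {c : F} (hc : c ≠ 0)
    (h : ∀ t : F, spT u (c * (t * t)) ∈ H) : TIn H u := fun a => by
  by_cases h2 : (2 : F) = 0
  · haveI : CharP F 2 := CharTwo.of_one_ne_zero_of_two_eq_zero one_ne_zero h2
    obtain ⟨t, ht⟩ := FiniteField.isSquare_of_char_two (ringChar.eq F 2) (a / c)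
    have := h t
    rwa [← ht, mul_div_cancel₀ _ hc] at this
  · have := H.mul_mem (h ((a / c + 1) / 2)) (H.inv_mem (h ((a / c - 1) / 2)))
    rw [spT_inv, spT_add] at this
    convert this using 2
    have h4 : (4 : F) ≠ 0 := by
      have := mul_ne_zero h2 h2
      norm_num at this
      exact this
    field_simp
    ring

end general

section cycle

variable {n : ℕ}

set_option quotPrecheck false in
local notation "Spn" => Subtype (fun A => A ∈ Matrix.symplecticGroup (Fin (n + 2)) F)
set_option quotPrecheck false in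
local notation "Vn" => (Fin (n + 2) ⊕ Fin (n + 2) → F)

/-- The signed cycle `e_0 → … → e_last → f_0 → … → f_last → -e_0`. -/
noncomputable def wLin : Vn →ₗ[F] Vn where
  toFun x := Sum.elim
    (Fin.cons (-x (Sum.inr (Fin.last (n + 1)))) fun i => x (Sum.inl i.castSucc))
    (Fin.cons (x (Sum.inl (Fin.last (n + 1)))) fun i => x (Sum.inr i.castSucc))
  map_add' x y := by
    funext i
    rcases i with i | i <;> induction i using Fin.cases <;> simp [add_comm]
  map_smul' a x := by
    funext i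
    rcases i with i | i <;> induction i using Fin.cases <;> simp

theorem wLin_form (u v : Vn) :
    Cfsg.sympForm (n + 2) F (wLin u) (wLin v) = Cfsg.sympForm (n + 2) F u v := by
  rw [sympForm_eq_sum, sympForm_eq_sum]
  conv_lhs => rw [Fin.sum_univ_succ]
  conv_rhs => rw [Fin.sum_univ_castSucc]
  simp only [wLin, LinearMap.coe_mk, AddHom.coe_mk, Sum.elim_inl, Sum.elim_inr, Fin.cons_zero,
    Fin.cons_succ]
  ring

/-- The signed cycle as an element of `Sp_{2m}`. -/
noncomputable def spW : Spn := spOfLin wLin wLin_form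

theorem spW_mulVec (x : Vn) : (spW : Spn).1 *ᵥ x = wLin x := spOfLin_mulVec _ _ x

theorem spW_bE (i : Fin (n + 1)) : (spW : Spn).1 *ᵥ bE i.castSucc = bE i.succ := by
  rw [spW_mulVec]
  funext j
  rcases j with j | j <;> induction j using Fin.cases <;>
    simp [wLin, (Fin.castSucc_lt_last i).ne', (Fin.succ_ne_zero i).symm]

theorem spW_bF (i : Fin (n + 1)) : (spW : Spn).1 *ᵥ bF i.castSucc = bF i.succ := by
  rw [spW_mulVec]
  funext j
  rcases j with j | j <;> induction j using Fin.cases <;>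
    simp [wLin, (Fin.castSucc_lt_last i).ne', (Fin.succ_ne_zero i).symm]

theorem spW_bE_last : (spW : Spn).1 *ᵥ bE (Fin.last (n + 1)) = bF 0 := by
  rw [spW_mulVec]
  funext j
  rcases j with j | j <;> induction j using Fin.cases <;>
    simp [wLin, Fin.succ_ne_zero, (Fin.castSucc_lt_last _).ne]

theorem spW_bF_last : (spW : Spn).1 *ᵥ bF (Fin.last (n + 1)) = -bE 0 := by
  rw [spW_mulVec]
  funext j
  rcases j with j | j <;> induction j using Fin.cases <;>
    simp [wLin, Fin.succ_ne_zero, (Fin.castSucc_lt_last _).ne]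

variable {H : Subgroup (Matrix.symplecticGroup (Fin (n + 2)) F)}

theorem chain {g : Spn} (hg : g ∈ H)
    (hge : ∀ i : Fin (n + 1), g.1 *ᵥ bE i.castSucc = bE i.succ)
    (h0 : SIn H (bE 0) (bE 1)) : ∀ i : Fin (n + 1), SIn H (bE i.castSucc) (bE i.succ) := by
  intro i
  induction i using Fin.induction with
  | zero => simpa using h0
  | succ i ih =>
    have := ih.conj hg
    rwa [hge, ← Fin.castSucc_succ, hge] at this

/-- The cycle, `T(e_0)` and `S(e_0,e_1)` generate everything. -/
theorem eq_top_of_cycle (hw : (spW : Spn) ∈ H) (hT : TIn H (bE 0))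
    (hS : SIn H (bE 0) (bE 1)) : H = ⊤ := by
  have hE : ∀ i, TIn H (bE i) := fun i => by
    induction i using Fin.induction with
    | zero => exact hT
    | succ i ih => simpa [spW_bE] using ih.conj hw
  have hF : ∀ i, TIn H (bF i) := fun i => by
    induction i using Fin.induction with
    | zero => simpa [spW_bE_last] using (hE (Fin.last (n + 1))).conj hw
    | succ i ih => simpa [spW_bF] using ih.conj hw
  refine eq_top_of_gens hE hF fun i j hij => ?_
  have := chain hw spW_bE hS ⟨i, by omega⟩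
  convert this using 2 <;> exact Fin.ext (by simp [hij])

/-- The diagonal generator. -/
noncomputable def genH (k : Fˣ) : Spn := spD (Pi.mulSingle 0 k)

/-- The second generator. -/
noncomputable def genA : Spn :=
  spS (bE 0) (bE 1) (1 : F) * spT (bE 0) (1 : F) * spW

theorem form01 : Cfsg.sympForm (n + 2) F (bE 0) (bE 1) = 0 := by simp

/-- First step: the root subgroup `S(e_0,e_1)` and `T(e_0,1) w`. -/
theorem first_root {k : Fˣ} (hgen : ∀ u : Fˣ, u ∈ Submonoid.powers k) (hk : (k : F) ≠ 1)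
    (hh : (genH k : Spn) ∈ H) (ha : (genA : Spn) ∈ H) :
    SIn H (bE 0) (bE 1) ∧ spT (bE 0) (1 : F) * (spW : Spn) ∈ H := by
  let h : Spn := genH k
  let D : Spn := spD (Pi.mulSingle 1 k)
  have hD : (spW : Spn) * h * spW⁻¹ = D := mul_inv_eq_iff_eq_mul.mpr (sp_ext fun x => by
    funext j
    simp only [h, genH, D, sp_mulVec_mul, spW_mulVec]
    rcases j with j | j <;> induction j using Fin.cases with
    | zero => simp [wLin, spD_inl, spD_inr, Pi.mulSingle_apply]
    | succ i =>
      simp only [wLin, spD_inl, spD_inr, LinearMap.coe_mk, AddHom.coe_mk, Sum.elim_inl,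
        Sum.elim_inr, Fin.cons_succ]
      have hiff : (i.castSucc = 0) ↔ (i.succ = (1 : Fin (n + 2))) := by
        rw [← Fin.succ_zero_eq_one, Fin.succ_inj, Fin.castSucc_eq_zero_iff]
      simp only [Pi.mulSingle_apply, hiff])
  let S := fun t : F => (spS (bE 0) (bE 1) t : Spn)
  have hDS : ∀ t, D * S t * D⁻¹ = S (t * k) := fun t => by
    simp only [S, D, spS_conj, spD_bE, Pi.mulSingle_apply]
    simp [spS_smul_right]
  have hhS : ∀ t, h * S t * h⁻¹ = S (t * k) := fun t => by
    simp only [S, h, genH, spS_conj, spD_bE, Pi.mulSingle_apply]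
    simp [spS_smul_left form01]
  have hDT : D * spT (bE 0) 1 * D⁻¹ = spT (bE 0) 1 := by
    simp [D, spT_conj, spD_bE, Pi.mulSingle_apply]
  have hy : S (1 - k) * D ∈ H := by
    have hmem := H.mul_mem (H.mul_mem ha hh) (H.inv_mem ha)
    convert hmem using 1
    calc S (1 - k) * D = S 1 * spT (bE 0) 1 * (spT (bE 0) 1)⁻¹ * (S (1 * k))⁻¹ * D := by
          simp only [S, mul_inv_cancel_right, spS_inv form01, spS_add form01, one_mul, sub_eq_add_neg]
      _ = S 1 * spT (bE 0) 1 * (D * spT (bE 0) 1 * D⁻¹)⁻¹ * (D * S 1 * D⁻¹)⁻¹ * D := by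
          rw [hDT, hDS]
      _ = (S 1 * spT (bE 0) 1) * D * (S 1 * spT (bE 0) 1)⁻¹ := by group
      _ = genA * h * genA⁻¹ := by rw [← hD]; simp only [genA, S]; group
  have hs : S ((1 - k) * k + -(1 - k)) ∈ H := by
    have hmem := H.mul_mem (H.mul_mem (H.mul_mem hh hy) (H.inv_mem hh)) (H.inv_mem hy)
    convert hmem using 1
    have hc : h * D * h⁻¹ = D := mul_inv_eq_iff_eq_mul.mpr (spD_comm _ _)
    calc S ((1 - k) * k + -(1 - k)) = S ((1 - k) * k) * (S (1 - k))⁻¹ := by
          simp only [S, spS_inv form01, spS_add form01]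
      _ = (h * S (1 - k) * h⁻¹) * (h * D * h⁻¹) * D⁻¹ * (S (1 - k))⁻¹ := by
          rw [hhS, hc, mul_inv_cancel_right]
      _ = _ := by simp only [h]; group
  set t0 : F := (1 - k) * k + -(1 - k) with ht0
  have ht0ne : t0 ≠ 0 := by
    have : t0 = (1 - k) * ((k : F) - 1) := by rw [ht0]; ring
    rw [this]
    exact mul_ne_zero (sub_ne_zero.mpr hk.symm) (sub_ne_zero.mpr hk)
  have hpow : ∀ j : ℕ, S (t0 * (k : F) ^ j) ∈ H := fun j => by
    induction j with
    | zero => simpa using hs
    | succ j ih =>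
      rw [pow_succ, ← mul_assoc, ← hhS]
      exact H.mul_mem (H.mul_mem hh ih) (H.inv_mem hh)
  have hall : SIn H (bE 0) (bE 1) := fun t => by
    rcases eq_or_ne t 0 with rfl | ht
    · rw [spS_zero]; exact H.one_mem
    · obtain ⟨j, hj⟩ := hgen (Units.mk0 (t / t0) (div_ne_zero ht ht0ne))
      have hj' : (k : F) ^ j = t / t0 := by
        simpa using congrArg Units.val hj
      have := hpow j
      rwa [hj', mul_div_cancel₀ _ ht0ne] at this
  refine ⟨hall, ?_⟩
  have := H.mul_mem (H.inv_mem (hall 1)) ha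
  rwa [genA, mul_assoc (spS (bE 0) (bE 1) (1 : F)), inv_mul_cancel_left] at this

/-- The case `k² ≠ 1`. -/
theorem eq_top_large [Finite F] {k : Fˣ} (hgen : ∀ u : Fˣ, u ∈ Submonoid.powers k)
    (hk : (k : F) * k ≠ 1) (hh : (genH k : Spn) ∈ H) (ha : (genA : Spn) ∈ H) : H = ⊤ := by
  have hk1 : (k : F) ≠ 1 := fun e => hk (by rw [e, mul_one])
  have hk0 : (k : F) ≠ 0 := k.ne_zero
  obtain ⟨hS, hwt⟩ := first_root hgen hk1 hh ha
  set wt : Spn := spT (bE 0) (1 : F) * spW with hwtdef
  have hwe : ∀ i : Fin (n + 1), wt.1 *ᵥ bE i.castSucc = bE i.succ := fun i => by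
    rw [hwtdef, sp_mulVec_mul, spW_bE, spT_fix _ (by simp)]
  have hM := ((chain hwt hwe hS) (Fin.last n)).conj hwt
  rw [hwe, Fin.succ_last, hwtdef, sp_mulVec_mul, spW_bE_last, spT_mulVec] at hM
  set l : Vn := bE (Fin.last (n + 1)) with hl
  have hl0 : (Fin.last (n + 1)) ≠ (0 : Fin (n + 2)) := (Fin.last_pos).ne'
  have hlE : Cfsg.sympForm (n + 2) F l (bE 0) = 0 := by simp [hl]
  have hlF : Cfsg.sympForm (n + 2) F l (bF 0) = 0 := by simp [hl, hl0.symm]
  have hM' : ∀ t : F, spS l (t • bF 0 + t • bE 0) 1 ∈ H := fun t => by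
    have := hM t
    rw [← smul_add, spS_smul_right, one_mul]
    simpa using this
  let h : Spn := genH k
  have hconj : ∀ s t : F, h * spS l (s • bF 0 + t • bE 0) 1 * h⁻¹ =
      spS l ((s * (k : F)⁻¹) • bF 0 + (t * k) • bE 0) 1 := fun s t => by
    simp only [spS_conj, h, genH, Matrix.mulVec_add, Matrix.mulVec_smul, spD_bE, spD_bF, hl,
      smul_smul]
    simp [Pi.mulSingle_apply, hl0]
  have hconjE : ∀ x : F, h * spS l (bE 0) x * h⁻¹ = spS l (bE 0) (x * k) := fun x => by
    simp only [spS_conj, h, genH, spD_bE, hl]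
    simp [Pi.mulSingle_apply, hl0, spS_smul_right]
  have hconjT : ∀ x : F, h * spT l x * h⁻¹ = spT l x := fun x => by
    simp only [spT_conj, h, genH, spD_bE, hl]
    simp [Pi.mulSingle_apply, hl0]
  set d : F := (k : F) - (k : F)⁻¹ with hd
  set c : F := (k : F)⁻¹ * (k : F)⁻¹ - 1 with hc
  have hd0 : d ≠ 0 := fun e => hk (by
    rw [hd, sub_eq_zero] at e
    nth_rewrite 2 [e]
    exact mul_inv_cancel₀ hk0)
  have hc0 : c ≠ 0 := fun e => hk (by
    rw [hc, sub_eq_zero, ← mul_inv, inv_eq_one] at e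
    exact e)
  have hP : ∀ t : F, spT l (c * (t * t)) * spS l (bE 0) (d * t) ∈ H := fun t => by
    have hmem := H.mul_mem (H.mul_mem (H.mul_mem hh (hM' t)) (H.inv_mem hh))
      (hM' (-(t * (k : F)⁻¹)))
    rw [hconj, spS_add_right (by simp only [sympForm_add_right, sympForm_smul_right, hlE, hlF, mul_zero, add_zero])
      (by simp only [sympForm_add_right, sympForm_smul_right, hlE, hlF, mul_zero, add_zero])] at hmem
    convert hmem using 2
    · congr 1
      simp [hc, sympForm_add_right, sympForm_smul_right, form_add_left, sympForm_smul_left]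
      field_simp
      ring
    · rw [← one_mul (d * t), ← spS_smul_right]
      congr 1
      match_scalars <;> simp [hd] <;> ring
  have hE0 : SIn H l (bE 0) := by
    intro x
    obtain ⟨t, rfl⟩ : ∃ t, x = ((k : F) - 1) * (d * t) :=
      ⟨x / (((k : F) - 1) * d), by field_simp [sub_ne_zero.mpr hk1]⟩
    have hmem := H.mul_mem (H.mul_mem (H.mul_mem hh (hP t)) (H.inv_mem hh)) (H.inv_mem (hP t))
    convert hmem using 1
    calc spS l (bE 0) (((k : F) - 1) * (d * t))
        = spS l (bE 0) (d * t * k) * (spS l (bE 0) (d * t))⁻¹ := by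
          rw [spS_inv hlE, spS_add hlE]; congr 1; ring
      _ = spT l (c * (t * t)) * (spS l (bE 0) (d * t * k) * (spS l (bE 0) (d * t))⁻¹) *
            (spT l (c * (t * t)))⁻¹ := by
          rw [spS_inv hlE, spS_add hlE, spT_comm_spS hlE, mul_inv_cancel_right]
      _ = (h * spT l (c * (t * t)) * h⁻¹) * (h * spS l (bE 0) (d * t) * h⁻¹) *
            (spT l (c * (t * t)) * spS l (bE 0) (d * t))⁻¹ := by
          rw [hconjT, hconjE]; group
      _ = _ := by simp only [h]; group
  have hTl : TIn H l := TIn.of_squares hc0 fun t => by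
    simpa using H.mul_mem (hP t) (H.inv_mem (hE0 (d * t)))
  have hT0 : TIn H (bE 0 : Vn) := by
    have : ∀ i : Fin (n + 2), TIn H (bE i : Vn) := fun i => by
      induction i using Fin.reverseInduction with
      | last => exact hTl
      | cast i ih => exact TIn.of_conj hwt (by rw [hwe]; exact ih)
    exact this 0
  refine eq_top_of_cycle ?_ hT0 hS
  simpa [hwtdef] using H.mul_mem (H.inv_mem (hT0 1)) hwt

end cycle

/-- The case `m = 2` in odd characteristic. -/
theorem eq_top_dim4 {H : Subgroup (Matrix.symplecticGroup (Fin (0 + 2)) F)} {k : Fˣ}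
    (hgen : ∀ u : Fˣ, u ∈ Submonoid.powers k) (hk1 : (k : F) ≠ 1) (h2 : (2 : F) ≠ 0)
    (hh : genH k ∈ H) (ha : (genA : Matrix.symplecticGroup (Fin (0 + 2)) F) ∈ H) : H = ⊤ := by
  obtain ⟨hS, hwt⟩ := first_root hgen hk1 hh ha
  have h01 : (Fin.castSucc (0 : Fin 1)) = (0 : Fin 2) := rfl
  have h11 : (Fin.succ (0 : Fin 1)) = (1 : Fin 2) := rfl
  have hlast : Fin.last 1 = (1 : Fin 2) := rfl
  have hF : SIn H (bE 0) (bF 1) := by
    refine SIn.of_conj hwt ?_
    rw [sp_mulVec_mul, sp_mulVec_mul, ← h01, spW_bE, h11, ← hlast, spW_bF_last, hlast,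
      spT_fix _ (by simp), spT_fix _ (by simp)]
    simpa using (hS.symm form01).smul (-1 : F)
  have hT : TIn H (bE 0) := TIn.of_SIn h2 (by simp) (by simp) (by simp) hS hF
  refine eq_top_of_cycle ?_ hT hS
  simpa using H.mul_mem (H.inv_mem (hT 1)) hwt

section small

variable {n : ℕ}

set_option quotPrecheck false in
local notation "Sp3" => Subtype (fun A => A ∈ Matrix.symplecticGroup (Fin (n + 1 + 2)) F)
set_option quotPrecheck false in
local notation "V3" => (Fin (n + 1 + 2) ⊕ Fin (n + 1 + 2) → F)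

/-- The index `2`. -/
def i2 : Fin (n + 1 + 2) := (Fin.succ 0 : Fin (n + 2)).succ

theorem i2_ne : (i2 : Fin (n + 1 + 2)) ≠ 0 ∧ (i2 : Fin (n + 1 + 2)) ≠ 1 := by
  exact ⟨Fin.succ_ne_zero _, fun e => Fin.succ_ne_zero 0
    (Fin.succ_injective _ (e.trans Fin.succ_zero_eq_one.symm))⟩

theorem eq_top_small {H : Subgroup (Matrix.symplecticGroup (Fin (n + 1 + 2)) F)}
    (r : Sp3) (N : ℕ) (hN : (N : F) = 1) (hrN : r ^ N = 1)
    (h3 : ∀ t : F, t = 0 ∨ t = 1 ∨ t = -1)
    (hre : r.1 *ᵥ bE i2 = -bF i2)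
    (hfix : ∀ j, j ≠ i2 → r.1 *ᵥ bE j = bE j)
    (hw : (spW : Sp3) ∈ H) (hy : spS (bE 0) (bE 1) (1 : F) * r ∈ H)
    (hT : r ∈ H → SIn H (bE (1 : Fin (n + 1 + 2))) (bE i2) →
      SIn H (bE (1 : Fin (n + 1 + 2))) (bF i2) → TIn H (bE (1 : Fin (n + 1 + 2)) : V3)) :
    H = ⊤ := by
  have h01 : Cfsg.sympForm (n + 1 + 2) F (bE 0) (bE 1) = 0 := by simp
  have hcomm : Commute (spS (bE 0) (bE 1) (1 : F) : Sp3) r := by
    have : r * spS (bE 0) (bE 1) 1 * r⁻¹ = spS (bE 0) (bE 1) (1 : F) := by
      rw [spS_conj, hfix _ i2_ne.1.symm, hfix _ i2_ne.2.symm]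
    exact (mul_inv_eq_iff_eq_mul.mp this).symm
  have hS1 : (spS (bE 0) (bE 1) (1 : F) : Sp3) ∈ H := by
    have := H.pow_mem hy N
    rwa [hcomm.mul_pow, hrN, mul_one, spS_pow h01, hN] at this
  have hr : r ∈ H := by simpa using H.mul_mem (H.inv_mem hS1) hy
  have hS : SIn H (bE 0) (bE 1) := fun t => by
    rcases h3 t with rfl | rfl | rfl
    · rw [spS_zero]; exact H.one_mem
    · exact hS1
    · rw [← spS_inv h01]; exact H.inv_mem hS1
  have hS12 : SIn H (bE (1 : Fin (n + 1 + 2))) (bE i2) := by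
    simpa [i2] using chain hw spW_bE hS (Fin.succ 0)
  have hS12' : SIn H (bE (1 : Fin (n + 1 + 2))) (bF i2) := by
    have := (hS12.conj hr).smul (-1 : F)
    rw [hfix _ i2_ne.2.symm, hre] at this
    simpa using this
  refine eq_top_of_cycle hw (TIn.of_conj hw ?_) hS
  have := spW_bE (F := F) (0 : Fin (n + 2))
  rw [Fin.castSucc_zero] at this
  rw [this]
  simpa using hT hr hS12 hS12'

theorem exists_gen_two (hc : ∀ t : F, t = 0 ∨ t = 1) :
    ∃ a b : Sp3, Subgroup.closure ({a, b} : Set Sp3) = ⊤ := by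
  have h2 : (2 : F) = 0 := by
    rcases hc 2 with h | h
    · exact h
    · exact absurd h (by intro e; exact one_ne_zero (by linear_combination e : (1 : F) = 0))
  let r : Sp3 := spT (bE i2) 1 * spT (bF i2) 1
  have hre : r.1 *ᵥ bE i2 = -bF i2 := by
    simp only [r, sp_mulVec_mul]
    simp [spT_mulVec, Matrix.mulVec_add, Matrix.mulVec_neg]
  have hrf : r.1 *ᵥ bF i2 = bF i2 + bE i2 := by
    simp only [r, sp_mulVec_mul]
    simp [spT_mulVec]
  have hfix : ∀ j, j ≠ i2 → r.1 *ᵥ bE j = bE j ∧ r.1 *ᵥ bF j = bF j := fun j hj => by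
    simp only [r, sp_mulVec_mul]
    simp [spT_mulVec, hj, hj.symm]
  let y : Sp3 := spS (bE 0) (bE 1) 1 * r
  refine ⟨spW, y, ?_⟩
  refine eq_top_small r 3 ?_ ?_ (fun t => (hc t).imp id Or.inl) hre (fun j hj => (hfix j hj).1)
    (Subgroup.subset_closure (by simp)) (Subgroup.subset_closure (by simp [y])) ?_
  · push_cast; linear_combination h2
  · have hneg : ∀ x : V3, -x = x := fun x => by
      rw [neg_eq_iff_add_eq_zero, ← two_smul F, h2, zero_smul]
    have hre' : r.1 *ᵥ bE i2 = bF i2 := by rw [hre, hneg]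
    have h3' : ∀ x : V3, (r ^ 3).1 *ᵥ x = r.1 *ᵥ (r.1 *ᵥ (r.1 *ᵥ x)) := fun x => by
      rw [pow_succ, pow_two, sp_mulVec_mul, sp_mulVec_mul]
    refine sp_ext_basis (fun j => ?_) fun j => ?_ <;> rw [h3', sp_one_mulVec] <;>
      rcases eq_or_ne j i2 with rfl | hj
    · rw [hre', hrf, Matrix.mulVec_add, hrf, hre', add_right_comm (bF i2), ← two_smul F (bF i2), h2,
        zero_smul, zero_add]
    · rw [(hfix j hj).1, (hfix j hj).1, (hfix j hj).1]
    · rw [hrf, Matrix.mulVec_add, hrf, hre', add_right_comm (bF i2), ← two_smul F (bF i2), h2, zero_smul,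
        zero_add, hre']
    · rw [(hfix j hj).2, (hfix j hj).2, (hfix j hj).2]
  · intro hr hA hB
    have hC := (hB.conj hr) 1
    rw [(hfix _ i2_ne.2.symm).1, hrf, add_comm (bF i2)] at hC
    have e := spS_add_right (u := bE (1 : Fin (n + 1 + 2))) (a := bE i2) (b := bF i2)
      (by simp) (by simp [i2_ne.2]) (1 : F) 1
    simp only [one_smul, form_bE_right, bF_inr, if_true, mul_one] at e
    have h1 := mul_mem (mul_mem (hA 1) (hB 1)) (inv_mem hC)
    rw [e, mul_inv_cancel_right] at h1
    intro t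
    rcases hc t with rfl | rfl
    · rw [spT_zero]; exact one_mem _
    · exact h1

theorem exists_gen_three (hc : ∀ t : F, t = 0 ∨ t = 1 ∨ t = -1) (h3 : (3 : F) = 0) :
    ∃ a b : Sp3, Subgroup.closure ({a, b} : Set Sp3) = ⊤ := by
  have h2 : (2 : F) ≠ 0 := fun e => one_ne_zero (by linear_combination h3 - e : (1 : F) = 0)
  let r : Sp3 := spT (bE i2) 1 * spT (bF i2) 1 * spT (bE i2) 1
  have hre : r.1 *ᵥ bE i2 = -bF i2 := by
    simp only [r, sp_mulVec_mul]
    simp [spT_mulVec, Matrix.mulVec_add, Matrix.mulVec_neg]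
  have hrf : r.1 *ᵥ bF i2 = bE i2 := by
    simp only [r, sp_mulVec_mul]
    simp [spT_mulVec, Matrix.mulVec_add, Matrix.mulVec_neg]
  have hfix : ∀ j, j ≠ i2 → r.1 *ᵥ bE j = bE j ∧ r.1 *ᵥ bF j = bF j := fun j hj => by
    simp only [r, sp_mulVec_mul]
    simp [spT_mulVec, hj, hj.symm]
  let y : Sp3 := spS (bE 0) (bE 1) 1 * r
  refine ⟨spW, y, ?_⟩
  refine eq_top_small r 4 ?_ ?_ hc hre (fun j hj => (hfix j hj).1)
    (Subgroup.subset_closure (by simp)) (Subgroup.subset_closure (by simp [y])) ?_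
  · push_cast; linear_combination h3
  · have h4 : ∀ x : V3, (r ^ 4).1 *ᵥ x = r.1 *ᵥ (r.1 *ᵥ (r.1 *ᵥ (r.1 *ᵥ x))) := fun x => by
      rw [pow_succ, pow_succ, pow_two, sp_mulVec_mul, sp_mulVec_mul, sp_mulVec_mul]
    refine sp_ext_basis (fun j => ?_) fun j => ?_ <;> rw [h4, sp_one_mulVec] <;>
      rcases eq_or_ne j i2 with rfl | hj
    · simp [hre, hrf, Matrix.mulVec_neg]
    · simp [(hfix j hj).1]
    · simp [hre, hrf, Matrix.mulVec_neg]
    · simp [(hfix j hj).2]
  · exact fun _ hA hB => TIn.of_SIn h2 (by simp) (by simp [i2_ne.2]) (by simp) hA hB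

end small

/-- `Sp_{2m}(q)` is generated by two elements. -/
theorem sp_two_gen [Fintype F] (m : ℕ) (hm : 2 ≤ m) (hF : m = 2 → 2 < Fintype.card F) :
    ∃ a b : Matrix.symplecticGroup (Fin m) F,
      Subgroup.closure ({a, b} : Set (Matrix.symplecticGroup (Fin m) F)) = ⊤ := by
  classical
  obtain ⟨n, rfl⟩ : ∃ n, m = n + 2 := ⟨m - 2, by omega⟩
  obtain ⟨k, hgen⟩ := IsCyclic.exists_monoid_generator (α := Fˣ)
  have hq : 2 ≤ Fintype.card F := Fintype.one_lt_card
  have hord : orderOf k = Fintype.card F - 1 := by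
    rw [← Fintype.card_units, ← Nat.card_eq_fintype_card]
    exact orderOf_eq_card_of_forall_mem_zpowers fun u => Submonoid.powers_le_zpowers k (hgen u)
  by_cases h4 : 4 ≤ Fintype.card F
  · have hk : (k : F) * k ≠ 1 := fun e => by
      have : orderOf k ∣ 2 := orderOf_dvd_of_pow_eq_one (Units.ext (by simpa [pow_two] using e))
      have := Nat.le_of_dvd two_pos this
      omega
    exact ⟨genH k, genA, eq_top_large hgen hk (Subgroup.subset_closure (by simp))
      (Subgroup.subset_closure (by simp))⟩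
  have hq' : Fintype.card F = 2 ∨ Fintype.card F = 3 := by omega
  cases n with
  | zero =>
    have hq3 : Fintype.card F = 3 := by have := hF rfl; omega
    have hk1 : (k : F) ≠ 1 := fun e => by
      have : orderOf k = 1 := orderOf_eq_one_iff.mpr (Units.ext e)
      omega
    have h2 : (2 : F) ≠ 0 := fun e => by
      have h3 : (3 : F) = 0 := by
        have := Nat.cast_card_eq_zero F
        rwa [hq3] at this
      exact one_ne_zero (by linear_combination h3 - e : (1 : F) = 0)
    exact ⟨genH k, genA, eq_top_dim4 hgen hk1 h2 (Subgroup.subset_closure (by simp))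
      (Subgroup.subset_closure (by simp))⟩
  | succ n =>
    rcases hq' with hq2 | hq3
    · refine exists_gen_two fun t => ?_
      have := FiniteField.pow_card t
      rw [hq2] at this
      rcases mul_eq_zero.mp (show t * (t - 1) = 0 by linear_combination this) with h | h
      · exact Or.inl h
      · exact Or.inr (sub_eq_zero.mp h)
    · refine exists_gen_three (fun t => ?_) ?_
      · have := FiniteField.pow_card t
        rw [hq3] at this
        rcases mul_eq_zero.mp (show (t * (t - 1)) * (t + 1) = 0 by linear_combination this) with h | h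
        · rcases mul_eq_zero.mp h with h | h
          · exact Or.inl h
          · exact Or.inr (Or.inl (sub_eq_zero.mp h))
        · exact Or.inr (Or.inr (eq_neg_of_add_eq_zero_left h))
      · have := Nat.cast_card_eq_zero F
        rwa [hq3] at this

end Cfsg.Agent.Lib.SpTwoGen
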